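import Cfsg.Agent.Lib.Unitary.Simple

/-!
Involutions of `SU_3(q)`, `q` odd, as nonisotropic points.
-/

set_option autoImplicit false
set_option linter.unusedSectionVars false

namespace Cfsg.Agent.Lib.SU3Invol

open Matrix Cfsg Cfsg.Agent.Lib.Unitary

variable {F : Type*} [Field F] [Fintype F] {q : ℕ}

local notation "V3" => Fin 3 → F

/-- Norm one. -/
def IsUnit1 (q : ℕ) (u : Fin 3 → F) : Prop := hermForm 3 F q u u = 1

theorem two_ne (hF : Fintype.card F = q ^ 2) (hq : Odd q) : (2 : F) ≠ 0 := by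
  have h : ringChar F ≠ 2 := fun h => by
    have := FiniteField.even_card_of_char_two h
    rw [hF] at this
    have h2 : Odd (q ^ 2) := hq.pow
    rw [Nat.odd_iff] at h2
    omega
  exact Ring.two_ne_zero h

theorem eq_zero_of_neg_eq (h2 : (2 : F) ≠ 0) {a : F} (h : -a = a) : a = 0 :=
  (mul_eq_zero.1 (show (2 : F) * a = 0 by linear_combination (-1 : F) * h)).resolve_left h2

/-- The matrix of the involution attached to `u`. -/
def refMat (q : ℕ) (u : Fin 3 → F) : Matrix (Fin 3) (Fin 3) F := -(rk1 q (-2) u u)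

theorem refMat_mulVec (u v : V3) : refMat q u *ᵥ v = -v + (2 * hermForm 3 F q v u) • u := by
  rw [refMat, Matrix.neg_mulVec, rk1_mulVec, neg_add, neg_mul, neg_smul, neg_neg]

theorem refMat_det {u : V3} (hu : IsUnit1 q u) : (refMat q u).det = 1 := by
  rw [refMat, Matrix.det_neg, rk1_det, hu, Fintype.card_fin]
  ring

theorem pow_two (hF : Fintype.card F = q ^ 2) : (2 : F) ^ q = 2 := by
  rw [show (2 : F) = 1 + 1 by norm_num, add_pow_q hF, one_pow]

theorem refMat_preserving (hF : Fintype.card F = q ^ 2) {u : V3} (hu : IsUnit1 q u) (a b : V3) :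
    hermForm 3 F q (refMat q u *ᵥ a) (refMat q u *ᵥ b) = hermForm 3 F q a b := by
  unfold IsUnit1 at hu
  simp only [refMat_mulVec, herm_add_left, herm_add_right _ _ _ hF, herm_smul_left, herm_smul_right,
    herm_neg_left, herm_neg_right _ _ hF, hu, mul_one, mul_pow, pow_two hF, herm_conj b u hF]
  ring

/-- The involution attached to `u`. -/
def refl (hF : Fintype.card F = q ^ 2) {u : Fin 3 → F} (hu : IsUnit1 q u) : SU 3 F q :=
  ⟨⟨refMat q u, refMat_det hu⟩, fun a b => refMat_preserving hF hu a b⟩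

theorem act_herm (g : SU 3 F q) (a b : V3) :
    hermForm 3 F q (g.1.1 *ᵥ a) (g.1.1 *ᵥ b) = hermForm 3 F q a b := g.2 a b

theorem refl_mulVec (hF : Fintype.card F = q ^ 2) {u : V3} (hu : IsUnit1 q u) (v : V3) :
    (refl hF hu).1.1 *ᵥ v = -v + (2 * hermForm 3 F q v u) • u := refMat_mulVec u v

theorem SU_ext {g h : SU 3 F q} (e : ∀ v, g.1.1 *ᵥ v = h.1.1 *ᵥ v) : g = h :=
  Subtype.ext (Subtype.ext (Matrix.ext_iff_mulVec.2 e))

theorem isUnit1_ne_zero {u : V3} (hu : IsUnit1 q u) : u ≠ 0 := fun h => by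
  subst h
  simp [IsUnit1, herm_zero_left] at hu

theorem refl_fix (hF : Fintype.card F = q ^ 2) {u : V3} (hu : IsUnit1 q u) :
    (refl hF hu).1.1 *ᵥ u = u := by
  rw [refl_mulVec, hu, mul_one, two_smul, neg_add_cancel_left]

theorem refl_sq (hF : Fintype.card F = q ^ 2) {u : V3} (hu : IsUnit1 q u) :
    refl hF hu * refl hF hu = 1 := by
  refine SU_ext fun v => ?_
  rw [SU_mul_mulVec, refl_mulVec hF hu v, Matrix.mulVec_add, Matrix.mulVec_smul, Matrix.mulVec_neg, refl_fix,
    refl_mulVec]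
  simp

theorem refl_smul (hF : Fintype.card F = q ^ 2) {u : V3} (hu : IsUnit1 q u) {c : F} (hc : c * c ^ q = 1)
    (hcu : IsUnit1 q (c • u)) : refl hF hcu = refl hF hu := by
  refine SU_ext fun v => ?_
  rw [refl_mulVec, refl_mulVec, herm_smul_right, smul_smul]
  congr 2
  linear_combination (2 * hermForm 3 F q v u) * hc

/-- Equal involutions come from proportional vectors. -/
theorem exists_smul_of_refl_eq (hF : Fintype.card F = q ^ 2) (h2 : (2 : F) ≠ 0) {u w : V3}
    (hu : IsUnit1 q u) (hw : IsUnit1 q w) (h : refl hF hu = refl hF hw) :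
    ∃ c : F, c * c ^ q = 1 ∧ w = c • u := by
  have e := congrArg (fun g : SU 3 F q => g.1.1 *ᵥ w) h
  simp only [refl_fix, refl_mulVec] at e
  have hc : w = hermForm 3 F q w u • u := by
    refine smul_right_injective _ h2 ?_
    show (2 : F) • w = (2 : F) • (hermForm 3 F q w u • u)
    rw [two_smul, smul_smul]
    nth_rewrite 1 [← e]
    abel
  refine ⟨_, ?_, hc⟩
  have h1 := hw
  rw [IsUnit1, hc, herm_smul_left, herm_smul_right, hu, mul_one] at h1
  exact h1

theorem isUnit1_act {u : V3} (hu : IsUnit1 q u) (g : SU 3 F q) : IsUnit1 q (g.1.1 *ᵥ u) := by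
  rw [IsUnit1, act_herm]; exact hu

theorem conj_refl (hF : Fintype.card F = q ^ 2) {u : V3} (hu : IsUnit1 q u) (g : SU 3 F q) :
    g * refl hF hu * g⁻¹ = refl hF (isUnit1_act hu g) := by
  refine SU_ext fun v => ?_
  obtain ⟨w, rfl⟩ : ∃ w, v = g.1.1 *ᵥ w := ⟨g⁻¹.1.1 *ᵥ v, by rw [← SU_mul_mulVec, mul_inv_cancel]; simp⟩
  rw [SU_mul_mulVec, SU_mul_mulVec, SU_inv_mulVec, refl_mulVec, refl_mulVec, act_herm, Matrix.mulVec_add,
    Matrix.mulVec_smul, Matrix.mulVec_neg]

/-- Coordinates on the orthogonal of a norm-one vector. -/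
theorem exists_frame (hF : Fintype.card F = q ^ 2) {u : V3} (hu : IsUnit1 q u) :
    ∃ ι : (Fin 2 → F) → (Fin 3 → F),
      (∀ x y, hermForm 3 F q (ι x) (ι y) = hermForm 2 F q x y) ∧ (∀ x, hermForm 3 F q (ι x) u = 0) ∧
      (∀ (c : F) x, ι (c • x) = c • ι x) ∧ Function.Injective ι ∧
      ∀ v, hermForm 3 F q v u = 0 → ∃ x, ι x = v := by
  obtain ⟨A, hA⟩ := exists_GU_norm_one hF (x := (Pi.single 0 1 : V3)) (y := u) (by simp [herm_std hF]) hu
  refine ⟨fun x => A.1.1 *ᵥ Fin.cons 0 x, fun x y => ?_, fun x => ?_, fun c x => ?_, ?_, fun v hv => ?_⟩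
  · rw [GU_herm, herm_succ]
    simp
  · rw [← hA, GU_herm, herm_single _ hF]
    simp
  · show A.1.1 *ᵥ Fin.cons 0 (c • x) = c • (A.1.1 *ᵥ Fin.cons 0 x)
    rw [← Matrix.mulVec_smul]
    congr 1
    ext i
    refine Fin.cases ?_ (fun j => ?_) i <;> simp
  · intro x y h
    have := congrArg (fun z => Fin.tail (A⁻¹.1.1 *ᵥ z)) h
    simpa only [GU_inv_mulVec, Fin.tail_cons] using this
  · refine ⟨Fin.tail (A⁻¹.1.1 *ᵥ v), ?_⟩
    have h0 : (A⁻¹.1.1 *ᵥ v) 0 = 0 := by
      rw [← hA, ← GU_herm (A := A⁻¹), GU_inv_mulVec, herm_single _ hF] at hv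
      exact hv
    have e : (Fin.cons 0 (Fin.tail (A⁻¹.1.1 *ᵥ v)) : V3) = A⁻¹.1.1 *ᵥ v := by
      conv_rhs => rw [← Fin.cons_self_tail (A⁻¹.1.1 *ᵥ v), h0]
    show A.1.1 *ᵥ Fin.cons 0 _ = v
    rw [e, ← GU_mul_mulVec, mul_inv_cancel]
    simp

/-- The orthogonal direction in the plane. -/
def rot (q : ℕ) (x : Fin 2 → F) : Fin 2 → F := ![-(x 1) ^ q, x 0 ^ q]

theorem rot_spec (hF : Fintype.card F = q ^ 2) (x : Fin 2 → F) :
    hermForm 2 F q (rot q x) x = 0 ∧ hermForm 2 F q (rot q x) (rot q x) = hermForm 2 F q x x := by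
  constructor
  · simp [hermForm, rot, Fin.sum_univ_two]; ring
  · simp only [hermForm, rot, Fin.sum_univ_two, Matrix.cons_val_zero, Matrix.cons_val_one, neg_pow_q hF,
      pow_q_q hF]
    ring

theorem eq_smul_rot {x z : Fin 2 → F} (hx : x ≠ 0) (hz : hermForm 2 F q z x = 0) :
    ∃ k : F, z = k • rot q x := by
  simp only [hermForm, Fin.sum_univ_two] at hz
  by_cases h0 : x 0 = 0
  · have h1 : x 1 ^ q ≠ 0 := pow_ne_zero _ fun h1 => hx (funext fun i => by fin_cases i <;> simpa)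
    refine ⟨-(z 0) / x 1 ^ q, funext fun i => ?_⟩
    fin_cases i
    · simp [rot, div_mul_cancel₀ _ h1]
    · rw [h0] at hz
      rcases Nat.eq_zero_or_pos q with rfl | hq
      · simp [rot] at hz ⊢; linear_combination hz
      · rw [zero_pow hq.ne', mul_zero, zero_add, mul_eq_zero] at hz
        simp [rot, h0, zero_pow hq.ne', hz.resolve_right h1]
  · have h0' : x 0 ^ q ≠ 0 := pow_ne_zero _ h0
    refine ⟨z 1 / x 0 ^ q, funext fun i => ?_⟩
    fin_cases i
    · simp [rot]
      field_simp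
      linear_combination hz
    · simp [rot, div_mul_cancel₀ _ h0']

/-- The part of `v` orthogonal to `u`. -/
theorem proj_spec (hF : Fintype.card F = q ^ 2) {u v : V3} (hu : IsUnit1 q u) (hv : IsUnit1 q v) :
    hermForm 3 F q (v - hermForm 3 F q v u • u) u = 0 ∧
      hermForm 3 F q (v - hermForm 3 F q v u • u) (v - hermForm 3 F q v u • u) =
        1 - hermForm 3 F q v u * hermForm 3 F q v u ^ q := by
  unfold IsUnit1 at hu hv
  constructor
  · rw [herm_sub_left, herm_smul_left, hu]; ring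
  · simp only [herm_sub_left, herm_sub_right _ _ _ hF, herm_smul_left, herm_smul_right, hu, hv,
      herm_conj v u hF]
    ring

theorem perp_both_iff (hF : Fintype.card F = q ^ 2) {u v z : V3} (hz : hermForm 3 F q z u = 0) :
    hermForm 3 F q z (v - hermForm 3 F q v u • u) = hermForm 3 F q z v := by
  rw [herm_sub_right _ _ _ hF, herm_smul_right, hz, mul_zero, sub_zero]

/-- Two points spanning a nondegenerate line have a common orthogonal point. -/
theorem exists_perp (hF : Fintype.card F = q ^ 2) {u v : V3} (hu : IsUnit1 q u) (hv : IsUnit1 q v)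
    (h : hermForm 3 F q v u * hermForm 3 F q v u ^ q ≠ 1) :
    ∃ z, IsUnit1 q z ∧ hermForm 3 F q z u = 0 ∧ hermForm 3 F q z v = 0 := by
  obtain ⟨ι, hι, hιu, hιs, -, hsurj⟩ := exists_frame hF hu
  obtain ⟨hp, hpp⟩ := proj_spec hF hu hv
  obtain ⟨x, hx⟩ := hsurj _ hp
  have hn : hermForm 2 F q (rot q x) (rot q x) ≠ 0 := by
    rw [(rot_spec hF x).2, ← hι, hx, hpp, sub_ne_zero]
    exact h.symm
  obtain ⟨s, hs⟩ := norm_surj hF (y := (hermForm 2 F q (rot q x) (rot q x))⁻¹)
    (by rw [inv_pow, herm_self_fixed _ hF])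
  refine ⟨ι (s • rot q x), ?_, hιu _, ?_⟩
  · rw [IsUnit1, hι, herm_smul_left, herm_smul_right, ← mul_assoc, hs, inv_mul_cancel₀ hn]
  · rw [← perp_both_iff hF (hιu _), ← hx, hι, herm_smul_left, (rot_spec hF x).1, mul_zero]

theorem coord_ne_zero (hF : Fintype.card F = q ^ 2) {u v : V3} (hne : ∀ c : F, v ≠ c • u)
    {ι : (Fin 2 → F) → V3} (hιs : ∀ (c : F) x, ι (c • x) = c • ι x) {x : Fin 2 → F}
    (hx : ι x = v - hermForm 3 F q v u • u) : x ≠ 0 := by
  intro h
  have h0 : ι (0 : Fin 2 → F) = 0 := by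
    have := hιs 0 0
    rwa [zero_smul, zero_smul] at this
  rw [h, h0] at hx
  exact hne _ (sub_eq_zero.1 hx.symm)

/-- A tangent line has no nonisotropic orthogonal point. -/
theorem no_perp (hF : Fintype.card F = q ^ 2) {u v z : V3} (hu : IsUnit1 q u) (hv : IsUnit1 q v)
    (hne : ∀ c : F, v ≠ c • u) (h : hermForm 3 F q v u * hermForm 3 F q v u ^ q = 1)
    (hz : IsUnit1 q z) (hzu : hermForm 3 F q z u = 0) (hzv : hermForm 3 F q z v = 0) : False := by
  obtain ⟨ι, hι, hιu, hιs, -, hsurj⟩ := exists_frame hF hu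
  obtain ⟨hp, hpp⟩ := proj_spec hF hu hv
  obtain ⟨x, hx⟩ := hsurj _ hp
  obtain ⟨y, rfl⟩ := hsurj _ hzu
  have hx0 := coord_ne_zero hF hne hιs hx
  rw [← perp_both_iff hF hzu, ← hx, hι] at hzv
  obtain ⟨k, rfl⟩ := eq_smul_rot hx0 hzv
  rw [IsUnit1, hι, herm_smul_left, herm_smul_right, (rot_spec hF x).2, ← hι, hx, hpp, h, sub_self,
    mul_zero, mul_zero] at hz
  exact zero_ne_one hz

/-- The common orthogonal point is unique. -/
theorem perp_unique (hF : Fintype.card F = q ^ 2) {u v z z' : V3} (hu : IsUnit1 q u) (hv : IsUnit1 q v)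
    (hne : ∀ c : F, v ≠ c • u)
    (hz : IsUnit1 q z) (hzu : hermForm 3 F q z u = 0) (hzv : hermForm 3 F q z v = 0)
    (hz' : IsUnit1 q z') (hzu' : hermForm 3 F q z' u = 0) (hzv' : hermForm 3 F q z' v = 0) :
    ∃ c : F, c * c ^ q = 1 ∧ z' = c • z := by
  obtain ⟨ι, hι, hιu, hιs, -, hsurj⟩ := exists_frame hF hu
  obtain ⟨hp, hpp⟩ := proj_spec hF hu hv
  obtain ⟨x, hx⟩ := hsurj _ hp
  obtain ⟨y, rfl⟩ := hsurj _ hzu
  obtain ⟨y', rfl⟩ := hsurj _ hzu'
  have hx0 := coord_ne_zero hF hne hιs hx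
  rw [← perp_both_iff hF hzu, ← hx, hι] at hzv
  rw [← perp_both_iff hF hzu', ← hx, hι] at hzv'
  obtain ⟨k, rfl⟩ := eq_smul_rot hx0 hzv
  obtain ⟨k', rfl⟩ := eq_smul_rot hx0 hzv'
  have hk : k ≠ 0 := fun h => by
    rw [h] at hz
    simp [IsUnit1, hι, herm_zero_left] at hz
  have e : ι (k' • rot q x) = (k' / k) • ι (k • rot q x) := by
    rw [hιs, hιs, smul_smul, div_mul_cancel₀ _ hk]
  refine ⟨k' / k, ?_, e⟩
  have h1 := hz'
  rw [IsUnit1, e, herm_smul_left, herm_smul_right, hz, mul_one] at h1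
  exact h1

/-- Fixed part of an involution. -/
theorem fixed_herm_eq_zero (hF : Fintype.card F = q ^ 2) (h2 : (2 : F) ≠ 0) {x : SU 3 F q}
    (hx : x * x = 1) {a : V3} (ha : x.1.1 *ᵥ a = a)
    (h : ∀ f, x.1.1 *ᵥ f = f → hermForm 3 F q a f = 0) : a = 0 := by
  refine herm_nondeg_left hF fun v => ?_
  have hxx : x.1.1 *ᵥ (x.1.1 *ᵥ v) = v := by rw [← SU_mul_mulVec, hx]; simp
  have h1 := h (v + x.1.1 *ᵥ v) (by rw [Matrix.mulVec_add, hxx, add_comm])
  have h3 : hermForm 3 F q a (x.1.1 *ᵥ v) = hermForm 3 F q a v := by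
    conv_lhs => rw [← ha]
    exact act_herm x a v
  rw [herm_add_right _ _ _ hF, h3] at h1
  exact (mul_eq_zero.1 (show (2 : F) * hermForm 3 F q a v = 0 by linear_combination h1)).resolve_left h2

theorem exists_fixed_unit (hF : Fintype.card F = q ^ 2) (h2 : (2 : F) ≠ 0) {x : SU 3 F q}
    (hx : x * x = 1) {a : V3} (ha0 : a ≠ 0) (ha : x.1.1 *ᵥ a = a) (P : Submodule F V3)
    (haP : a ∈ P) (hP : ∀ b ∈ P, (∀ f ∈ P, x.1.1 *ᵥ f = f → hermForm 3 F q b f = 0) →
      ∀ f, x.1.1 *ᵥ f = f → hermForm 3 F q b f = 0) :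
    ∃ u ∈ P, IsUnit1 q u ∧ x.1.1 *ᵥ u = u := by
  let W : Submodule F V3 := P ⊓ LinearMap.eqLocus (Matrix.mulVecLin x.1.1) LinearMap.id
  obtain ⟨u, ⟨huP, hux⟩, hu⟩ := exists_norm_one_of_nondeg hF (W := W)
    (fun b hb hb' => fixed_herm_eq_zero hF h2 hx hb.2 (hP b hb.1 fun f hf hfx => hb' f ⟨hf, hfx⟩))
    (fun h => ha0 ((Submodule.eq_bot_iff W).1 h a ⟨haP, ha⟩))
  exact ⟨u, huP, hu, hux⟩

/-- Every involution is attached to a norm-one vector. -/
theorem exists_refl (hF : Fintype.card F = q ^ 2) (h2 : (2 : F) ≠ 0) {x : SU 3 F q} (hx1 : x ≠ 1)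
    (hx : x * x = 1) : ∃ (u : V3) (hu : IsUnit1 q u), x = refl hF hu := by
  have hxx : ∀ v, x.1.1 *ᵥ (x.1.1 *ᵥ v) = v := fun v => by rw [← SU_mul_mulVec, hx]; simp
  -- a fixed norm-one vector
  obtain ⟨a, ha0, ha⟩ : ∃ a, a ≠ 0 ∧ x.1.1 *ᵥ a = a := by
    by_contra h
    push Not at h
    have hm : x.1.1 = -1 := Matrix.ext_iff_mulVec.2 fun v => by
      rw [Matrix.neg_mulVec, Matrix.one_mulVec]
      by_contra hv
      refine h (v + x.1.1 *ᵥ v) (fun he => hv ?_) (by rw [Matrix.mulVec_add, hxx, add_comm])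
      exact (neg_eq_of_add_eq_zero_right he).symm
    have hd := x.1.2
    rw [hm, Matrix.det_neg, Matrix.det_one, Fintype.card_fin] at hd
    exact h2 (by linear_combination -hd)
  obtain ⟨u, -, hu, hux⟩ := exists_fixed_unit hF h2 hx ha0 ha ⊤ trivial (fun b _ h f hf => h f trivial hf)
  refine ⟨u, hu, ?_⟩
  by_cases hW : ∃ b, b ≠ 0 ∧ x.1.1 *ᵥ b = b ∧ hermForm 3 F q b u = 0
  · exfalso
    obtain ⟨b, hb0, hb, hbu⟩ := hW
    obtain ⟨w, hwu, hw, hwx⟩ := exists_fixed_unit hF h2 hx hb0 hb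
      (perp q (Submodule.span F {u})) ((mem_perp_span hF).2 fun s hs => by rw [Set.mem_singleton_iff.1 hs]; exact hbu)
      (fun c hc h f hf => by
        have hcu : hermForm 3 F q c u = 0 := (mem_perp_span hF).1 hc u rfl
        have h' := h (f - hermForm 3 F q f u • u)
          ((mem_perp_span hF).2 fun s hs => by
            rw [Set.mem_singleton_iff.1 hs, herm_sub_left, herm_smul_left, hu, mul_one, sub_self])
          (by rw [Matrix.mulVec_sub, Matrix.mulVec_smul, hux, hf])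
        rwa [herm_sub_right _ _ _ hF, herm_smul_right, hcu, mul_zero, sub_zero] at h')
    have hwu' : hermForm 3 F q w u = 0 := (mem_perp_span hF).1 hwu u rfl
    obtain ⟨z, hz, hzu, hzw⟩ := exists_perp hF hu hw (by
      rw [hwu', zero_mul]; exact zero_ne_one)
    have hne : ∀ c : F, w ≠ c • u := fun c hc => by
      have h0 := hwu'
      rw [hc, herm_smul_left, hu, mul_one] at h0
      rw [h0, zero_smul] at hc
      exact isUnit1_ne_zero hw hc
    obtain ⟨c, -, hc⟩ := perp_unique hF hu hw hne hz hzu hzw (isUnit1_act hz x)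
      (by conv_lhs => arg 5; rw [← hux]
          rw [act_herm, hzu])
      (by conv_lhs => arg 5; rw [← hwx]
          rw [act_herm, hzw])
    have hdec : ∀ v, v = hermForm 3 F q v u • u + hermForm 3 F q v w • w + hermForm 3 F q v z • z := by
      intro v
      set r := v - (hermForm 3 F q v u • u + hermForm 3 F q v w • w) with hr
      have huw : hermForm 3 F q u w = 0 := (herm_eq_zero_symm hF hwu')
      have hru : hermForm 3 F q r u = 0 := by
        rw [hr, herm_sub_left, herm_add_left, herm_smul_left, herm_smul_left, hu, hwu']; ring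
      have hrw : hermForm 3 F q r w = 0 := by
        rw [hr, herm_sub_left, herm_add_left, herm_smul_left, herm_smul_left, huw, hw]; ring
      obtain ⟨ι, hι, hιu, hιs, -, hsurj⟩ := exists_frame hF hu
      obtain ⟨y, hy⟩ := hsurj r hru
      obtain ⟨y', hy'⟩ := hsurj w hwu'
      obtain ⟨y'', hy''⟩ := hsurj z hzu
      rw [← hy, ← hy', hι] at hrw
      rw [← hy'', ← hy', hι] at hzw
      have hy'0 : y' ≠ 0 := fun h0 => by
        rw [IsUnit1, ← hy', hι, h0, herm_zero_left] at hw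
        exact zero_ne_one hw
      obtain ⟨k, rfl⟩ := eq_smul_rot hy'0 hrw
      obtain ⟨k', rfl⟩ := eq_smul_rot hy'0 hzw
      have hk' : k' ≠ 0 := fun h0 => by
        rw [IsUnit1, ← hy'', hι, h0, zero_smul, herm_zero_left] at hz
        exact zero_ne_one hz
      have hrz : r = (k / k') • z := by rw [← hy, ← hy'', hιs, hιs, smul_smul, div_mul_cancel₀ _ hk']
      have hvz : hermForm 3 F q v z = k / k' := by
        have hv : v = hermForm 3 F q v u • u + hermForm 3 F q v w • w + r := by rw [hr]; abel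
        conv_lhs => rw [hv]
        rw [herm_add_left, herm_add_left, herm_smul_left, herm_smul_left, hrz, herm_smul_left, hz,
          herm_eq_zero_symm hF hzu, herm_eq_zero_symm hF (show hermForm 3 F q z w = 0 by
            rw [← hy'', ← hy', hι]; exact hzw)]
        ring
      rw [hvz, ← hrz, hr]; abel
    have hm : x.1.1 = rk1 q (c - 1) z z := Matrix.ext_iff_mulVec.2 fun v => by
      rw [rk1_mulVec]
      nth_rewrite 1 [hdec v]
      rw [Matrix.mulVec_add, Matrix.mulVec_add, Matrix.mulVec_smul, Matrix.mulVec_smul, Matrix.mulVec_smul,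
        hux, hwx, hc]
      linear_combination (norm := module) -(hdec v)
    have hd := x.1.2
    rw [hm, rk1_det, hz, mul_one, add_sub_cancel] at hd
    refine hx1 (SU_ext fun v => ?_)
    rw [hm, hd, sub_self, rk1_mulVec, zero_mul, zero_smul, add_zero]
    simp
  · push Not at hW
    refine SU_ext fun v => ?_
    rw [refl_mulVec]
    set r := v - hermForm 3 F q v u • u with hr
    have hru : hermForm 3 F q r u = 0 := by rw [hr, herm_sub_left, herm_smul_left, hu, mul_one, sub_self]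
    have hrr : x.1.1 *ᵥ r = -r := by
      by_contra hne
      refine hW (r + x.1.1 *ᵥ r) (fun he => hne (neg_eq_of_add_eq_zero_right he).symm)
        (by rw [Matrix.mulVec_add, hxx, add_comm]) ?_
      rw [herm_add_left, hru, zero_add]
      conv_lhs => arg 5; rw [← hux]
      rw [act_herm, hru]
    have hv : v = r + hermForm 3 F q v u • u := by rw [hr, sub_add_cancel]
    conv_lhs => rw [hv, Matrix.mulVec_add, Matrix.mulVec_smul, hux, hrr]
    rw [hr]
    module

theorem refl_ne_one (hF : Fintype.card F = q ^ 2) (h2 : (2 : F) ≠ 0) {u : V3} (hu : IsUnit1 q u) :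
    refl hF hu ≠ 1 := by
  intro h
  obtain ⟨ι, hι, hιu, -, -, -⟩ := exists_frame hF hu
  have e := congrArg (fun g : SU 3 F q => g.1.1 *ᵥ ι ![1, 0]) h
  simp only [refl_mulVec, hιu] at e
  rw [mul_zero, zero_smul, add_zero] at e
  have h0 : ι ![1, 0] = 0 := by
    refine funext fun i => eq_zero_of_neg_eq h2 ?_
    have := congrFun e i
    simpa using this
  have h1 := hι ![1, 0] ![1, 0]
  rw [h0, herm_zero_left] at h1
  simp [hermForm, Fin.sum_univ_two] at h1

theorem commute_iff (hF : Fintype.card F = q ^ 2) (h2 : (2 : F) ≠ 0) {u v : V3} (hu : IsUnit1 q u)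
    (hv : IsUnit1 q v) :
    Commute (refl hF hu) (refl hF hv) ↔ hermForm 3 F q v u = 0 ∨ ∃ c : F, v = c • u := by
  constructor
  · intro h
    by_cases h0 : hermForm 3 F q v u = 0
    · exact Or.inl h0
    refine Or.inr ?_
    have e := conj_refl hF hv (refl hF hu)
    rw [h.eq, mul_inv_cancel_right] at e
    obtain ⟨c, -, hc⟩ := exists_smul_of_refl_eq hF h2 hv (isUnit1_act hv _) e
    rw [refl_mulVec] at hc
    have hc1 : c + 1 ≠ 0 := fun h1 => by
      have h3 : (2 * hermForm 3 F q v u) • u = (c + 1) • v := by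
        rw [add_smul, one_smul, ← hc]; abel
      rw [h1, zero_smul, smul_eq_zero] at h3
      exact h3.elim (mul_ne_zero h2 h0) (isUnit1_ne_zero hu)
    refine ⟨(c + 1)⁻¹ * (2 * hermForm 3 F q v u), ?_⟩
    rw [mul_smul, show (2 * hermForm 3 F q v u) • u = (c + 1) • v by rw [add_smul, one_smul, ← hc]; abel,
      smul_smul, inv_mul_cancel₀ hc1, one_smul]
  · rintro (h | ⟨c, rfl⟩)
    · have e := conj_refl hF hv (refl hF hu)
      refine mul_inv_eq_iff_eq_mul.1 (e.trans (SU_ext fun w => ?_))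
      have hh : (refl hF hu).1.1 *ᵥ v = -v := by rw [refl_mulVec, h, mul_zero, zero_smul, add_zero]
      simp only [refl_mulVec, h, mul_zero, zero_smul, add_zero, herm_neg_right _ _ hF, mul_neg, neg_smul_neg]
    · have hc : c * c ^ q = 1 := by
        have h1 := hv
        rw [IsUnit1, herm_smul_left, herm_smul_right, hu, mul_one] at h1
        exact h1
      rw [refl_smul hF hu hc hv]

end Cfsg.Agent.Lib.SU3Invol
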