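import Cfsg.Agent.Lib.SU3Invol.Basic
import Cfsg.Agent.Lib.Unitary.Order

/-!
The commuting graph of the involutions of `SU_3(q)`, `q` odd.
-/

set_option autoImplicit false
set_option linter.unusedSectionVars false

namespace Cfsg.Agent.Lib.SU3Invol

open Matrix Cfsg Cfsg.Agent.Lib.Unitary

variable {F : Type*} [Field F] [Fintype F] {q : ℕ}

local notation "V3" => Fin 3 → F
local notation "G" => SU 3 F q

theorem card_scalars (hF : Fintype.card F = q ^ 2) : Nat.card {c : F // c * c ^ q = 1} = q + 1 := by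
  rw [← card_norm_one hF]
  exact Nat.card_congr (Equiv.subtypeEquivRight fun c => by rw [pow_succ'])

/-- A set of involutions, lifted to vectors, is `q + 1` times as large. -/
theorem card_lift (hF : Fintype.card F = q ^ 2) (h2 : (2 : F) ≠ 0) (P : G → Prop) :
    Nat.card {v : V3 // ∃ h : IsUnit1 q v, P (refl hF h)} =
      (q + 1) * Nat.card {x : G // x ≠ 1 ∧ x * x = 1 ∧ P x} := by
  classical
  have hex : ∀ x : {x : G // x ≠ 1 ∧ x * x = 1 ∧ P x}, ∃ (u : V3) (hu : IsUnit1 q u), x.1 = refl hF hu :=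
    fun x => exists_refl hF h2 x.2.1 x.2.2.1
  choose u hu hx using hex
  have hsmul : ∀ (x) (c : {c : F // c * c ^ q = 1}), IsUnit1 q (c.1 • u x) := fun x c => by
    rw [IsUnit1, herm_smul_left, herm_smul_right, hu x, mul_one]; exact c.2
  let f : {x : G // x ≠ 1 ∧ x * x = 1 ∧ P x} × {c : F // c * c ^ q = 1} →
      {v : V3 // ∃ h : IsUnit1 q v, P (refl hF h)} := fun xc =>
    ⟨xc.2.1 • u xc.1, hsmul _ _, by rw [refl_smul hF (hu xc.1) xc.2.2, ← hx]; exact xc.1.2.2.2⟩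
  have hf : Function.Bijective f := by
    constructor
    · rintro ⟨x, c⟩ ⟨y, d⟩ e
      have e' : c.1 • u x = d.1 • u y := congrArg Subtype.val e
      have hxy : x = y := by
        apply Subtype.ext
        rw [hx, hx, ← refl_smul hF (hu x) c.2 (hsmul x c), ← refl_smul hF (hu y) d.2 (hsmul y d)]
        congr 1
      subst hxy
      exact Prod.ext rfl (Subtype.ext (smul_left_injective F (isUnit1_ne_zero (hu x)) e'))
    · rintro ⟨v, hv, hP⟩
      obtain ⟨c, hc, he⟩ := exists_smul_of_refl_eq hF h2 (hu ⟨_, refl_ne_one hF h2 hv, refl_sq hF hv, hP⟩) hv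
        (hx ⟨_, refl_ne_one hF h2 hv, refl_sq hF hv, hP⟩).symm
      exact ⟨(_, ⟨c, hc⟩), Subtype.ext he.symm⟩
  rw [← Nat.card_eq_of_bijective f hf, Nat.card_prod, card_scalars hF, mul_comm]

theorem card_split {α : Type*} [Finite α] (P Q : α → Prop) :
    Nat.card {x // P x} = Nat.card {x // P x ∧ Q x} + Nat.card {x // P x ∧ ¬ Q x} := by
  classical
  haveI := Fintype.ofFinite α
  simp only [Nat.card_eq_fintype_card, Fintype.card_subtype]
  rw [← Finset.card_filter_add_card_filter_not (s := Finset.univ.filter P) Q, Finset.filter_filter,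
    Finset.filter_filter]

theorem countUnit_three (hF : Fintype.card F = q ^ 2) :
    countUnit F q 3 = (q + 1) * (q ^ 2 * (q ^ 2 - q + 1)) := by
  rw [countUnit_succ hF 2, if_pos even_two]
  have hq := one_lt_q hF
  obtain ⟨d, hd⟩ : ∃ d, q ^ 2 = q + d := ⟨q ^ 2 - q, by
    have : q ≤ q ^ 2 := by nlinarith
    omega⟩
  rw [hd, Nat.add_sub_cancel_left, show q ^ (2 + 1) = q * q ^ 2 by ring, hd]
  linear_combination (q + d) * hd

theorem card_invol (hF : Fintype.card F = q ^ 2) (h2 : (2 : F) ≠ 0) :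
    Nat.card {x : G // x ≠ 1 ∧ x * x = 1} = q ^ 2 * (q ^ 2 - q + 1) := by
  have h := card_lift hF h2 (fun _ : G => True)
  simp only [and_true, exists_prop] at h
  rw [show Nat.card {v : V3 // IsUnit1 q v} = countUnit F q 3 from rfl, countUnit_three hF] at h
  exact (Nat.eq_of_mul_eq_mul_left (Nat.succ_pos q) h).symm

theorem exists_SU_move (hF : Fintype.card F = q ^ 2) {u v : V3} (hu : IsUnit1 q u) (hv : IsUnit1 q v) :
    ∃ g : G, ∃ c : F, c * c ^ q = 1 ∧ g.1.1 *ᵥ u = c • v := by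
  obtain ⟨A, hA⟩ := exists_GU_norm_one hF hu hv
  obtain ⟨B, hB, hBv, -⟩ := exists_GU_scale hF hv (inv_norm_one hF (det_norm_one hF A))
  have hd : (B * A).1.1.det = 1 := by
    rw [show (B * A).1.1 = B.1.1 * A.1.1 from rfl, Matrix.det_mul, hB,
      inv_mul_cancel₀ (fun h => by simpa [h] using det_norm_one hF A)]
  obtain ⟨X, hX⟩ := exists_SU_of_GU hd
  exact ⟨X, _, inv_norm_one hF (det_norm_one hF A), by rw [hX, GU_mul_mulVec, hA, hBv]⟩

theorem conj_all (hF : Fintype.card F = q ^ 2) (h2 : (2 : F) ≠ 0) {t x : G} (ht : t ≠ 1) (ht2 : t * t = 1)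
    (hx1 : x ≠ 1) (hx : x * x = 1) : ∃ g : G, g * t * g⁻¹ = x := by
  obtain ⟨u, hu, rfl⟩ := exists_refl hF h2 ht ht2
  obtain ⟨v, hv, rfl⟩ := exists_refl hF h2 hx1 hx
  obtain ⟨g, c, hc, hg⟩ := exists_SU_move hF hu hv
  refine ⟨g, ?_⟩
  rw [conj_refl hF hu g]
  have hcv : IsUnit1 q (c • v) := hg ▸ isUnit1_act hu g
  rw [← refl_smul hF hv hc hcv]
  congr 1

theorem card_centralizer (hF : Fintype.card F = q ^ 2) (h2 : (2 : F) ≠ 0) {t : G} (ht : t ≠ 1)
    (ht2 : t * t = 1) :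
    Nat.card (Subgroup.centralizer ({t} : Set G)) = q * (q + 1) * (q ^ 2 - 1) := by
  have hne : ∀ g : G, g * t * g⁻¹ ≠ 1 := fun g h => ht (conj_eq_one_iff.1 h)
  let f : G ⧸ Subgroup.centralizer ({t} : Set G) → {x : G // x ≠ 1 ∧ x * x = 1} :=
    Quotient.lift (fun g => ⟨g * t * g⁻¹, hne g, by rw [conj_mul, ht2, mul_one, mul_inv_cancel]⟩) (fun a b h => by
      have h' := Subgroup.mem_centralizer_singleton_iff.1 (QuotientGroup.leftRel_apply.1 h)
      refine Subtype.ext ?_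
      show a * t * a⁻¹ = b * t * b⁻¹
      calc a * t * a⁻¹ = a * (t * (a⁻¹ * b)) * b⁻¹ := by group
        _ = a * ((a⁻¹ * b) * t) * b⁻¹ := by rw [h']
        _ = b * t * b⁻¹ := by group)
  have hf : Function.Bijective f := by
    constructor
    · intro a b
      induction a using QuotientGroup.induction_on with | H a => ?_
      induction b using QuotientGroup.induction_on with | H b => ?_
      intro h
      have h' : a * t * a⁻¹ = b * t * b⁻¹ := congrArg Subtype.val h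
      refine QuotientGroup.eq.2 (Subgroup.mem_centralizer_singleton_iff.2 ?_)
      calc a⁻¹ * b * t = a⁻¹ * (b * t * b⁻¹) * b := by group
        _ = a⁻¹ * (a * t * a⁻¹) * b := by rw [h']
        _ = t * (a⁻¹ * b) := by group
    · rintro ⟨x, hx1, hx⟩
      obtain ⟨g, hg⟩ := conj_all hF h2 ht ht2 hx1 hx
      exact ⟨QuotientGroup.mk g, Subtype.ext hg⟩
  have hidx := Nat.card_eq_of_bijective f hf
  rw [card_invol hF h2] at hidx
  have hmul := (Subgroup.centralizer ({t} : Set G)).card_eq_card_quotient_mul_card_subgroup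
  rw [hidx] at hmul
  have hsu := card_SU (F := F) hF (show 1 ≤ 3 by norm_num)
  rw [card_GU_succ hF, countUnit_three hF, card_GU_succ hF, countUnit_succ hF 1, card_GU_succ hF,
    countUnit_succ hF 0, card_GU, hmul] at hsu
  · simp only [Nat.not_even_one, if_false, Even.zero, if_true, pow_zero, zero_add, one_mul, pow_one,
      Finset.range_zero, Finset.prod_empty, Nat.zero_mul, Nat.zero_div, mul_one] at hsu
    have hpos : 0 < (q + 1) * (q ^ 2 * (q ^ 2 - q + 1)) := by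
      have := one_lt_q hF
      positivity
    refine Nat.eq_of_mul_eq_mul_left hpos ?_
    rw [mul_assoc, hsu]; ring
  · exact hF

theorem conj_card_neighbours (hF : Fintype.card F = q ^ 2) {u : V3} (hu : IsUnit1 q u) :
    Nat.card {v : V3 // IsUnit1 q v ∧ hermForm 3 F q v u = 0} = (q + 1) * (q * (q - 1)) := by
  obtain ⟨ι, hι, hιu, -, hinj, hsurj⟩ := exists_frame hF hu
  have hbij : Function.Bijective (fun x : {x : Fin 2 → F // hermForm 2 F q x x = 1} =>
      (⟨ι x.1, (hι _ _).trans x.2, hιu _⟩ : {v : V3 // IsUnit1 q v ∧ hermForm 3 F q v u = 0})) := by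
    constructor
    · intro a b h; exact Subtype.ext (hinj (congrArg Subtype.val h))
    · rintro ⟨v, hv, hvu⟩
      obtain ⟨x, rfl⟩ := hsurj v hvu
      exact ⟨⟨x, (hι x x).symm.trans hv⟩, rfl⟩
  rw [← Nat.card_eq_of_bijective _ hbij]
  have e := countUnit_succ hF 1 (F := F)
  rw [if_neg Nat.not_even_one, pow_one] at e
  refine e.trans ?_
  have hq := one_lt_q hF
  obtain ⟨m, rfl⟩ : ∃ m, q = m + 1 := ⟨q - 1, by omega⟩
  rw [show (m + 1) ^ (1 + 1) = (m * (m + 2)) + 1 by ring, Nat.add_sub_cancel, Nat.add_sub_cancel]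
  ring

theorem card_tangent (hF : Fintype.card F = q ^ 2) {u : V3} (hu : IsUnit1 q u) :
    Nat.card {v : V3 // IsUnit1 q v ∧ (∀ c : F, v ≠ c • u) ∧
      hermForm 3 F q v u * hermForm 3 F q v u ^ q = 1} = (q + 1) * ((q + 1) * (q ^ 2 - 1)) := by
  classical
  obtain ⟨ι, hι, hιu, hιs, hinj, hsurj⟩ := exists_frame hF hu
  have hι0 : ι 0 = 0 := by
    have := hιs 0 0
    rwa [zero_smul, zero_smul] at this
  have hau : ∀ (a : F) x, hermForm 3 F q (a • u + ι x) u = a := fun a x => by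
    rw [herm_add_left, herm_smul_left, hu, hιu, mul_one, add_zero]
  have hnorm : ∀ (a : F) x, hermForm 3 F q (a • u + ι x) (a • u + ι x) = a * a ^ q + hermForm 2 F q x x := by
    intro a x
    unfold IsUnit1 at hu
    simp only [herm_add_left, herm_add_right _ _ _ hF, herm_smul_left, herm_smul_right, hu, hιu,
      herm_eq_zero_symm hF (hιu x), hι]
    ring
  have hbij : Function.Bijective (fun ax : {a : F // a * a ^ q = 1} × {x : Fin 2 → F // hermForm 2 F q x x = 0 ∧ x ≠ 0} =>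
      (⟨ax.1.1 • u + ι ax.2.1, by rw [IsUnit1, hnorm, ax.1.2, ax.2.2.1, add_zero], fun c hc => by
          have hc' := hau ax.1.1 ax.2.1
          rw [hc, herm_smul_left, hu, mul_one] at hc'
          rw [hc', add_eq_left, ← hι0] at hc
          exact ax.2.2.2 (hinj hc), by rw [hau]; exact ax.1.2⟩ :
        {v : V3 // IsUnit1 q v ∧ (∀ c : F, v ≠ c • u) ∧ hermForm 3 F q v u * hermForm 3 F q v u ^ q = 1})) := by
    constructor
    · rintro ⟨⟨a, ha⟩, ⟨x, hx⟩⟩ ⟨⟨b, hb⟩, ⟨y, hy⟩⟩ h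
      have h' : a • u + ι x = b • u + ι y := congrArg Subtype.val h
      have hab : a = b := by rw [← hau a x, h', hau]
      subst hab
      exact Prod.ext rfl (Subtype.ext (hinj (add_left_cancel h')))
    · rintro ⟨v, hv, hne, hn⟩
      obtain ⟨hp, hpp⟩ := proj_spec hF hu hv
      obtain ⟨x, hx⟩ := hsurj _ hp
      refine ⟨(⟨_, hn⟩, ⟨x, ?_, coord_ne_zero hF hne hιs hx⟩), Subtype.ext ?_⟩
      · rw [← hι, hx, hpp, hn, sub_self]
      · show hermForm 3 F q v u • u + ι x = v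
        rw [hx, add_sub_cancel]
  rw [← Nat.card_eq_of_bijective _ hbij, Nat.card_prod, card_scalars hF]
  congr 1
  have hsp := card_split (fun x : Fin 2 → F => hermForm 2 F q x x = 0) (fun x => x = 0)
  have h1 : Nat.card {x : Fin 2 → F // hermForm 2 F q x x = 0 ∧ x = 0} = 1 := by
    rw [Nat.card_eq_one_iff_unique]
    exact ⟨⟨fun a b => Subtype.ext (a.2.2.trans b.2.2.symm)⟩, ⟨⟨0, herm_zero_left _, rfl⟩⟩⟩
  have e := countNull_succ_eq hF 1 (F := F)
  rw [if_neg Nat.not_even_one, pow_one] at e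
  rw [show Nat.card {x : Fin 2 → F // hermForm 2 F q x x = 0} = countNull F q (1 + 1) from rfl, e, h1] at hsp
  rw [mul_comm] at hsp
  change _ = 1 + Nat.card {x : Fin 2 → F // hermForm 2 F q x x = 0 ∧ x ≠ 0} at hsp
  show Nat.card {x : Fin 2 → F // hermForm 2 F q x x = 0 ∧ x ≠ 0} = _
  rw [show (1 : ℕ) + 1 = 2 from rfl] at hsp
  omega

theorem smul_unit {u : V3} (hu : IsUnit1 q u) {c : F} (h : IsUnit1 q (c • u)) : c * c ^ q = 1 := by
  rw [IsUnit1, herm_smul_left, herm_smul_right, hu, mul_one] at h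
  exact h

theorem commute_refl_ne_iff (hF : Fintype.card F = q ^ 2) (h2 : (2 : F) ≠ 0) {u v : V3} (hu : IsUnit1 q u)
    (hv : IsUnit1 q v) :
    (refl hF hv ≠ refl hF hu ∧ Commute (refl hF hu) (refl hF hv)) ↔ hermForm 3 F q v u = 0 := by
  rw [commute_iff hF h2 hu hv]
  constructor
  · rintro ⟨hne, h | ⟨c, rfl⟩⟩
    · exact h
    · exact absurd (refl_smul hF hu (smul_unit hu hv) hv) hne
  · intro h
    refine ⟨fun e => ?_, Or.inl h⟩
    obtain ⟨c, hc, rfl⟩ := exists_smul_of_refl_eq hF h2 hu hv e.symm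
    rw [herm_smul_left, hu, mul_one] at h
    rw [h, zero_mul] at hc
    exact zero_ne_one hc

theorem third_unique (hF : Fintype.card F = q ^ 2) (h2 : (2 : F) ≠ 0) {t x : G} (ht : t ≠ 1) (ht2 : t * t = 1)
    (hx1 : x ≠ 1) (hx : x * x = 1) (hne : x ≠ t) (hc : Commute t x) :
    Nat.card {y : G // y ≠ 1 ∧ y * y = 1 ∧ y ≠ t ∧ y ≠ x ∧ Commute t y ∧ Commute x y} = 1 := by
  obtain ⟨u, hu, rfl⟩ := exists_refl hF h2 ht ht2
  obtain ⟨v, hv, rfl⟩ := exists_refl hF h2 hx1 hx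
  have hvu := (commute_refl_ne_iff hF h2 hu hv).1 ⟨hne, hc⟩
  have hnv : ∀ c : F, v ≠ c • u := fun c h => by
    rw [h, herm_smul_left, hu, mul_one] at hvu
    rw [hvu, zero_smul] at h
    exact isUnit1_ne_zero hv h
  obtain ⟨z, hz, hzu, hzv⟩ := exists_perp hF hu hv (by rw [hvu, zero_mul]; exact zero_ne_one)
  obtain ⟨h1, h1'⟩ := (commute_refl_ne_iff hF h2 hu hz).2 hzu
  obtain ⟨h3, h3'⟩ := (commute_refl_ne_iff hF h2 hv hz).2 hzv
  rw [Nat.card_eq_one_iff_unique]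
  refine ⟨⟨?_⟩, ⟨⟨refl hF hz, refl_ne_one hF h2 hz, refl_sq hF hz, h1, h3, h1', h3'⟩⟩⟩
  rintro ⟨a, ha1, ha, hat, hax, hta, hxa⟩ ⟨b, hb1, hb, hbt, hbx, htb, hxb⟩
  obtain ⟨w, hw, rfl⟩ := exists_refl hF h2 ha1 ha
  obtain ⟨w', hw', rfl⟩ := exists_refl hF h2 hb1 hb
  obtain ⟨c, hc', rfl⟩ := perp_unique hF hu hv hnv hw ((commute_refl_ne_iff hF h2 hu hw).1 ⟨hat, hta⟩)
    ((commute_refl_ne_iff hF h2 hv hw).1 ⟨hax, hxa⟩) hw' ((commute_refl_ne_iff hF h2 hu hw').1 ⟨hbt, htb⟩)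
    ((commute_refl_ne_iff hF h2 hv hw').1 ⟨hbx, hxb⟩)
  exact Subtype.ext (refl_smul hF hw hc' hw').symm

/-- The far points are the tangent ones. -/
theorem far_iff (hF : Fintype.card F = q ^ 2) (h2 : (2 : F) ≠ 0) {u v : V3} (hu : IsUnit1 q u)
    (hv : IsUnit1 q v) :
    (¬ Commute (refl hF hu) (refl hF hv) ∧
        ∀ y : G, y ≠ 1 → y * y = 1 → ¬ (Commute (refl hF hu) y ∧ Commute y (refl hF hv))) ↔
      (∀ c : F, v ≠ c • u) ∧ hermForm 3 F q v u * hermForm 3 F q v u ^ q = 1 := by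
  rw [commute_iff hF h2 hu hv, not_or, not_exists]
  constructor
  · rintro ⟨⟨-, hne⟩, hy⟩
    refine ⟨hne, by_contra fun h => ?_⟩
    obtain ⟨z, hz, hzu, hzv⟩ := exists_perp hF hu hv h
    exact hy _ (refl_ne_one hF h2 hz) (refl_sq hF hz) ⟨((commute_refl_ne_iff hF h2 hu hz).2 hzu).2,
      ((commute_refl_ne_iff hF h2 hv hz).2 hzv).2.symm⟩
  · rintro ⟨hne, h⟩
    have h0 : hermForm 3 F q v u ≠ 0 := fun h0 => by rw [h0, zero_mul] at h; exact zero_ne_one h
    refine ⟨⟨h0, hne⟩, fun y hy1 hy hc => ?_⟩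
    obtain ⟨w, hw, rfl⟩ := exists_refl hF h2 hy1 hy
    rcases (commute_iff hF h2 hu hw).1 hc.1 with hwu | ⟨a, rfl⟩
    · rcases (commute_iff hF h2 hw hv).1 hc.2 with hvw | ⟨b, rfl⟩
      · exact no_perp hF hu hv hne h hw hwu (herm_eq_zero_symm hF hvw)
      · rw [herm_smul_left, hwu, mul_zero] at h0
        exact h0 rfl
    · rcases (commute_iff hF h2 hw hv).1 hc.2 with hvw | ⟨b, rfl⟩
      · rw [herm_smul_right] at hvw
        rcases mul_eq_zero.1 hvw with ha | ha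
        · exact isUnit1_ne_zero hw (by rw [eq_zero_of_pow_eq_zero ha, zero_smul])
        · exact h0 ha
      · exact hne _ (smul_smul b a u)

theorem graph (hF : Fintype.card F = q ^ 2) (h2 : (2 : F) ≠ 0) (t : G) (ht : t ≠ 1) (ht2 : t * t = 1) :
    Nat.card {x : G // x ≠ 1 ∧ x * x = 1 ∧ x ≠ t ∧ Commute t x} = q * (q - 1) ∧
    Nat.card {x : G // x ≠ 1 ∧ x * x = 1 ∧ ¬ Commute t x ∧
        ∃ y : G, y ≠ 1 ∧ y * y = 1 ∧ Commute t y ∧ Commute y x} = q * (q - 2) * (q ^ 2 - 1) ∧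
    Nat.card {x : G // x ≠ 1 ∧ x * x = 1 ∧ ¬ Commute t x ∧
        ∀ y : G, y ≠ 1 → y * y = 1 → ¬ (Commute t y ∧ Commute y x)} = (q + 1) * (q ^ 2 - 1) ∧
    ∀ x : G, x ≠ 1 → x * x = 1 →
      ∃ y z : G, y ≠ 1 ∧ y * y = 1 ∧ z ≠ 1 ∧ z * z = 1 ∧ Commute t y ∧ Commute y z ∧ Commute z x := by
  obtain ⟨u, hu, rfl⟩ := exists_refl hF h2 ht ht2
  have n1 : Nat.card {x : G // x ≠ 1 ∧ x * x = 1 ∧ x ≠ refl hF hu ∧ Commute (refl hF hu) x} = q * (q - 1) := by
    refine Nat.eq_of_mul_eq_mul_left (Nat.succ_pos q) ((card_lift hF h2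
      (fun x : G => x ≠ refl hF hu ∧ Commute (refl hF hu) x)).symm.trans ?_)
    rw [← conj_card_neighbours hF hu]
    exact Nat.card_congr (Equiv.subtypeEquivRight fun v =>
      ⟨fun ⟨h, hh⟩ => ⟨h, (commute_refl_ne_iff hF h2 hu h).1 hh⟩,
        fun ⟨h, hh⟩ => ⟨h, (commute_refl_ne_iff hF h2 hu h).2 hh⟩⟩)
  have n3 : Nat.card {x : G // x ≠ 1 ∧ x * x = 1 ∧ ¬ Commute (refl hF hu) x ∧
      ∀ y : G, y ≠ 1 → y * y = 1 → ¬ (Commute (refl hF hu) y ∧ Commute y x)} = (q + 1) * (q ^ 2 - 1) := by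
    refine Nat.eq_of_mul_eq_mul_left (Nat.succ_pos q) ((card_lift hF h2
      (fun x : G => ¬ Commute (refl hF hu) x ∧
        ∀ y : G, y ≠ 1 → y * y = 1 → ¬ (Commute (refl hF hu) y ∧ Commute y x))).symm.trans ?_)
    rw [← card_tangent hF hu]
    exact Nat.card_congr (Equiv.subtypeEquivRight fun v =>
      ⟨fun ⟨h, hh⟩ => ⟨h, (far_iff hF h2 hu h).1 hh⟩,
        fun ⟨h, hh⟩ => ⟨h, (far_iff hF h2 hu h).2 hh⟩⟩)
  refine ⟨n1, ?_, n3, ?_⟩
  · -- by subtraction
    have hs1 := card_split (fun x : G => x ≠ 1 ∧ x * x = 1) (fun x => Commute (refl hF hu) x)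
    have hs2 := card_split (fun x : G => (x ≠ 1 ∧ x * x = 1) ∧ Commute (refl hF hu) x) (fun x => x = refl hF hu)
    have hs3 := card_split (fun x : G => (x ≠ 1 ∧ x * x = 1) ∧ ¬ Commute (refl hF hu) x)
      (fun x => ∃ y : G, y ≠ 1 ∧ y * y = 1 ∧ Commute (refl hF hu) y ∧ Commute y x)
    have e1 : Nat.card {x : G // ((x ≠ 1 ∧ x * x = 1) ∧ Commute (refl hF hu) x) ∧ x = refl hF hu} = 1 := by
      rw [Nat.card_eq_one_iff_unique]
      exact ⟨⟨fun a b => Subtype.ext (a.2.2.trans b.2.2.symm)⟩, ⟨⟨_, ⟨⟨ht, ht2⟩, Commute.refl _⟩, rfl⟩⟩⟩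
    rw [e1, Nat.card_congr (Equiv.subtypeEquivRight fun x : G =>
      (by tauto : ((x ≠ 1 ∧ x * x = 1) ∧ Commute (refl hF hu) x) ∧ ¬ x = refl hF hu ↔
        x ≠ 1 ∧ x * x = 1 ∧ x ≠ refl hF hu ∧ Commute (refl hF hu) x)), n1] at hs2
    rw [Nat.card_congr (Equiv.subtypeEquivRight fun x : G =>
      (by simp only [and_assoc, not_exists, not_and] :
        ((x ≠ 1 ∧ x * x = 1) ∧ ¬ Commute (refl hF hu) x) ∧
          (¬ ∃ y : G, y ≠ 1 ∧ y * y = 1 ∧ Commute (refl hF hu) y ∧ Commute y x) ↔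
        x ≠ 1 ∧ x * x = 1 ∧ ¬ Commute (refl hF hu) x ∧
          ∀ y : G, y ≠ 1 → y * y = 1 → ¬ (Commute (refl hF hu) y ∧ Commute y x))), n3] at hs3
    rw [card_invol hF h2, hs2, hs3] at hs1
    simp only [and_assoc] at hs1 ⊢
    have hq := one_lt_q hF
    obtain ⟨m, rfl⟩ : ∃ m, q = m + 2 := ⟨q - 2, by omega⟩
    have a1 : (m + 2) ^ 2 - (m + 2) = (m + 2) * (m + 1) := by
      rw [show (m + 2) ^ 2 = (m + 2) * (m + 1) + (m + 2) by ring, Nat.add_sub_cancel]
    have a2 : (m + 2) ^ 2 - 1 = (m + 1) * (m + 3) := by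
      rw [show (m + 2) ^ 2 = (m + 1) * (m + 3) + 1 by ring, Nat.add_sub_cancel]
    rw [a1, a2, show m + 2 - 1 = m + 1 by omega] at hs1
    rw [Nat.add_sub_cancel, a2]
    linear_combination -hs1
  · intro x hx1 hx
    by_cases hc : Commute (refl hF hu) x
    · exact ⟨x, x, hx1, hx, hx1, hx, hc, Commute.refl x, Commute.refl x⟩
    by_cases hy : ∃ y : G, y ≠ 1 ∧ y * y = 1 ∧ Commute (refl hF hu) y ∧ Commute y x
    · obtain ⟨y, hy1, hy2, hty, hyx⟩ := hy
      exact ⟨y, x, hy1, hy2, hx1, hx, hty, hyx, Commute.refl x⟩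
    obtain ⟨v, hv, rfl⟩ := exists_refl hF h2 hx1 hx
    obtain ⟨hne, h⟩ := (far_iff hF h2 hu hv).1 ⟨hc, fun y h1 h3 h4 => hy ⟨y, h1, h3, h4⟩⟩
    obtain ⟨ι, hι, hιu, hιs, -, hsurj⟩ := exists_frame hF hu
    obtain ⟨hp, hpp⟩ := proj_spec hF hu hv
    obtain ⟨a, ha⟩ := hsurj _ hp
    have ha2 : hermForm 2 F q a a = 0 := by rw [← hι, ha, hpp, h, sub_self]
    -- a norm-one vector of the orthogonal plane spanning a nondegenerate line with `v`
    obtain ⟨e, he, hN⟩ : ∃ e : Fin 2 → F, hermForm 2 F q e e = 1 ∧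
        hermForm 2 F q a e * hermForm 2 F q a e ^ q ≠ 1 := by
      by_cases h0 : a 0 * a 0 ^ q = 1
      · refine ⟨Pi.single 1 1, by simp [herm_std hF], ?_⟩
        rw [herm_single _ hF]
        intro h1
        have hh := ha2
        simp only [hermForm, Fin.sum_univ_two] at hh
        exact h2 (by linear_combination hh - h0 - h1)
      · exact ⟨Pi.single 0 1, by simp [herm_std hF], by rwa [herm_single _ hF]⟩
    have hw : IsUnit1 q (ι e) := (hι e e).trans he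
    have hvw : hermForm 3 F q v (ι e) = hermForm 2 F q a e := by
      rw [← hι, ha, herm_sub_left, herm_smul_left, herm_eq_zero_symm hF (hιu e), mul_zero, sub_zero]
    obtain ⟨z, hz, hzw, hzv⟩ := exists_perp hF hw hv (by rw [hvw]; exact hN)
    refine ⟨refl hF hw, refl hF hz, refl_ne_one hF h2 hw, refl_sq hF hw, refl_ne_one hF h2 hz, refl_sq hF hz,
      ((commute_refl_ne_iff hF h2 hu hw).2 (hιu e)).2, ((commute_refl_ne_iff hF h2 hw hz).2 hzw).2,
      ((commute_refl_ne_iff hF h2 hv hz).2 hzv).2.symm⟩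

end Cfsg.Agent.Lib.SU3Invol
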